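import Mathlib
import Cfsg.Agent.S5005

/-!
# Order and same-order counts of M22 force simplicity

In M22 the Sylow subgroups of order 5, 7, 11 are self-centralising, so the number of elements of
each other nontrivial order is divisible by that prime. Hence the element counts determine the
three Sylow normalisers in a group of this order, and Frattini arguments give simplicity.
-/

set_option autoImplicit false

namespace Cfsg.Agent.NSEM22

open Cfsg Cfsg.Agent

universe u

theorem fact_five : Fact (Nat.Prime 5) := ⟨by norm_num⟩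

theorem fact_seven : Fact (Nat.Prime 7) := ⟨by norm_num⟩

theorem fact_eleven : Fact (Nat.Prime 11) := ⟨by norm_num⟩

/-- In M22 a prime `p ∈ {5, 7, 11}` divides the count of every order other than `1` and `p`. -/
theorem dvd_count {p : ℕ} [hp : Fact p.Prime] (hp3 : p = 5 ∨ p = 7 ∨ p = 11) {n : ℕ}
    (h1 : n ≠ 1) (hn : n ≠ p) : p ∣ Nat.card {g : S5005.G // orderOf g = n} := by
  classical
  obtain ⟨P⟩ : Nonempty (Sylow p S5005.G) := inferInstance
  obtain ⟨e, hS, hC, -, -⟩ := S5005.sylow_data hp3 P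
  letI : MulAction (P : Subgroup S5005.G) {g : S5005.G // orderOf g = n} :=
    { smul := fun u x => ⟨MulAut.conj (u : S5005.G) x.1, by rw [MulEquiv.orderOf_eq]; exact x.2⟩
      one_smul := fun x => Subtype.ext
        (show MulAut.conj ((1 : (P : Subgroup S5005.G)) : S5005.G) x.1 = x.1 by simp)
      mul_smul := fun u v x => Subtype.ext
        (show MulAut.conj ((u * v : (P : Subgroup S5005.G)) : S5005.G) x.1 =
          MulAut.conj (u : S5005.G) (MulAut.conj (v : S5005.G) x.1) by simp [mul_assoc]) }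
  have hmod := P.isPGroup'.card_modEq_card_fixedPoints {g : S5005.G // orderOf g = n}
  have hempty : IsEmpty (MulAction.fixedPoints (P : Subgroup S5005.G)
      {g : S5005.G // orderOf g = n}) := by
    refine ⟨fun ⟨⟨g, hg⟩, hfix⟩ => ?_⟩
    have hgC : g ∈ Subgroup.centralizer (P : Set S5005.G) := by
      refine Subgroup.mem_centralizer_iff.2 fun u hu => ?_
      have h2 : u * g * u⁻¹ = g := congrArg Subtype.val (hfix ⟨u, hu⟩)
      exact mul_inv_eq_iff_eq_mul.1 h2
    have h2 := Subgroup.orderOf_dvd_natCard _ hgC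
    rw [hC, hg] at h2
    rcases (Nat.dvd_prime hp.out).1 h2 with h | h
    · exact h1 h
    · exact hn h
  rw [Nat.card_of_isEmpty (α := MulAction.fixedPoints (P : Subgroup S5005.G)
    {g : S5005.G // orderOf g = n})] at hmod
  exact (Nat.modEq_zero_iff_dvd).1 hmod

section

variable {G : Type u} [Group G] [Finite G]

/-- The order of the normaliser of a Sylow subgroup of order 5, 7 or 11. -/
theorem normalizer_data {p : ℕ} [hp : Fact p.Prime] (hp3 : p = 5 ∨ p = 7 ∨ p = 11)
    (hcard : Nat.card G = Nat.card ↥Cfsg.Spor.M22)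
    (hnse : {c : ℕ | 0 < c ∧ ∃ n : ℕ, c = Nat.card {g : G // orderOf g = n}} =
      {c : ℕ | 0 < c ∧ ∃ n : ℕ, c = Nat.card {g : ↥Cfsg.Spor.M22 // orderOf g = n}})
    (P : Sylow p G) :
    Nat.card (P : Subgroup G) = p ∧
      Nat.card (Subgroup.normalizer ((P : Subgroup G) : Set G)) =
        (if p = 5 then 20 else if p = 7 then 21 else 55) := by
  classical
  obtain ⟨Q⟩ : Nonempty (Sylow p S5005.G) := inferInstance
  obtain ⟨e, hS, -, hcases, hmulM⟩ := S5005.sylow_data hp3 Q
  have hQcard : ∀ R : Sylow p S5005.G, Nat.card (R : Subgroup S5005.G) = p := fun R =>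
    (S5005.sylow_data hp3 R).choose_spec.1.card
  have hP : ∀ R : Sylow p G, Nat.card (R : Subgroup G) = p := by
    intro R
    rw [R.card_eq_multiplicity, hcard, ← Q.card_eq_multiplicity]
    exact hQcard Q
  refine ⟨hP P, ?_⟩
  have hG := BlockApp.PrimeData.card_orderOf hP
  have hM := BlockApp.PrimeData.card_orderOf hQcard
  have hpos : 0 < Nat.card {g : G // orderOf g = p} := by
    rw [hG]
    exact Nat.mul_pos Nat.card_pos (by rcases hp3 with rfl | rfl | rfl <;> norm_num)
  have hmem : Nat.card {g : G // orderOf g = p} ∈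
      {c : ℕ | 0 < c ∧ ∃ n : ℕ, c = Nat.card {g : ↥Cfsg.Spor.M22 // orderOf g = n}} := by
    rw [← hnse]
    exact ⟨hpos, p, rfl⟩
  obtain ⟨-, n, hn⟩ := hmem
  have hs := card_sylow_modEq_one p G
  have hnp : n = p := by
    by_contra hne
    have hlast : (Nat.card (Sylow p G) * (p - 1)) % p = p - 1 := by
      have := hs.mul_right (p - 1)
      rw [one_mul] at this
      rw [this, Nat.mod_eq_of_lt (by have := hp.out.pos; omega)]
    rw [← hG, hn] at hlast
    rcases eq_or_ne n 1 with rfl | h1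
    · have h1 : Nat.card {g : ↥Cfsg.Spor.M22 // orderOf g = 1} = 1 :=
        Nat.card_eq_one_iff_exists.2 ⟨⟨1, orderOf_one⟩, fun x =>
          Subtype.ext (orderOf_eq_one_iff.1 x.2)⟩
      rw [h1] at hlast
      rcases hp3 with rfl | rfl | rfl <;> simp at hlast
    · have h2 := dvd_count (p := p) hp3 h1 hne
      rw [Nat.mod_eq_zero_of_dvd h2] at hlast
      rcases hp3 with rfl | rfl | rfl <;> simp at hlast
  rw [hnp, hM, hG] at hn
  have hsyl : Nat.card (Sylow p G) = Nat.card (Sylow p S5005.G) :=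
    Nat.eq_of_mul_eq_mul_right (by rcases hp3 with rfl | rfl | rfl <;> norm_num) hn
  have hmul := Subgroup.card_mul_index (Subgroup.normalizer ((P : Subgroup G) : Set G))
  rw [show (Subgroup.normalizer ((P : Subgroup G) : Set G)).index = Nat.card (Sylow p G) from
    (Sylow.card_eq_index_normalizer P).symm, hsyl, hcard, S5005.card_G, ← hmulM, mul_comm] at hmul
  have hN := Nat.eq_of_mul_eq_mul_left (Nat.card_pos) hmul
  rw [hN]
  rcases hcases with ⟨rfl, rfl⟩ | ⟨rfl, rfl⟩ | ⟨rfl, rfl⟩ <;> norm_num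

/-- A normal subgroup whose order is divisible by the prime of such a Sylow subgroup. -/
theorem index_dvd {p : ℕ} [hp : Fact p.Prime] {N : Subgroup G} [N.Normal]
    (hcard : ∀ P : Sylow p G, Nat.card (P : Subgroup G) = p) (hd : p ∣ Nat.card N) :
    ∃ P : Sylow p G, N.index ∣ Nat.card (Subgroup.normalizer ((P : Subgroup G) : Set G)) := by
  obtain ⟨x, hx⟩ := exists_prime_orderOf_dvd_card' p hd
  have hxc : Nat.card (Subgroup.zpowers (x : G)) = p := by
    rw [Nat.card_zpowers, Subgroup.orderOf_coe, hx]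
  obtain ⟨P, hxP⟩ := (IsPGroup.of_card (n := 1) (by rw [hxc, pow_one]) :
    IsPGroup p (Subgroup.zpowers (x : G))).exists_le_sylow
  have he : Subgroup.zpowers (x : G) = (P : Subgroup G) :=
    Subgroup.eq_of_le_of_card_ge hxP (by rw [hcard P, hxc])
  have hPN : (P : Subgroup G) ≤ N := he ▸ Subgroup.zpowers_le.2 x.2
  refine ⟨P, ?_⟩
  have htop := Sylow.normalizer_sup_eq_top' P hPN
  rw [← Subgroup.relIndex_top_right, ← htop, sup_comm, Subgroup.relIndex_sup_left]
  exact Subgroup.relIndex_dvd_card _ _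

/-- The congruence for a coprime normal subgroup. -/
theorem fixed_mod {p : ℕ} [hp : Fact p.Prime] {N : Subgroup G} [N.Normal] (P : Sylow p G) :
    ∃ f, f ∣ Nat.card N ∧
      f ∣ Nat.card (Subgroup.normalizer ((P : Subgroup G) : Set G)) ∧ Nat.card N % p = f % p := by
  classical
  letI : MulAction (P : Subgroup G) N :=
    { smul := fun u x => ⟨(u : G) * x * (u : G)⁻¹, (inferInstance : N.Normal).conj_mem _ x.2 _⟩
      one_smul := fun x => Subtype.ext
        (show ((1 : (P : Subgroup G)) : G) * x * ((1 : (P : Subgroup G)) : G)⁻¹ = x by simp)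
      mul_smul := fun u v x => Subtype.ext
        (show ((u * v : (P : Subgroup G)) : G) * x * ((u * v : (P : Subgroup G)) : G)⁻¹ =
          (u : G) * ((v : G) * x * (v : G)⁻¹) * (u : G)⁻¹ by simp [mul_assoc]) }
  let C := N ⊓ Subgroup.centralizer ((P : Subgroup G) : Set G)
  have hfix : Nat.card (MulAction.fixedPoints (P : Subgroup G) N) = Nat.card C :=
    Nat.card_congr
      { toFun := fun x => ⟨(x.1 : G), x.1.2, Subgroup.mem_centralizer_iff.2 fun u hu =>
          mul_inv_eq_iff_eq_mul.1 (congrArg Subtype.val (x.2 ⟨u, hu⟩))⟩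
        invFun := fun x => ⟨⟨x.1, x.2.1⟩, fun u => Subtype.ext (show (u : G) * x.1 * (u : G)⁻¹ = x.1
          by rw [Subgroup.mem_centralizer_iff.1 x.2.2 u u.2, mul_inv_cancel_right])⟩
        left_inv := fun x => rfl
        right_inv := fun x => rfl }
  refine ⟨Nat.card C, Subgroup.card_dvd_of_le inf_le_left,
    Subgroup.card_dvd_of_le (inf_le_right.trans (Subgroup.centralizer_le_normalizer _)), ?_⟩
  rw [← hfix]
  exact P.isPGroup'.card_modEq_card_fixedPoints N

theorem table : ∀ a ∈ List.range 8, ∀ b ∈ List.range 3, 1 < 2 ^ a * 3 ^ b →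
    ¬ (2 ^ a * 3 ^ b % 11 = 1 ∧ (2 ^ a * 3 ^ b % 7 = 1 ∨ 2 ^ a * 3 ^ b % 7 = 3)) := by
  decide

/-- A group with the order and counts of M22 is simple. -/
theorem isM22_of_nse (hcard : Nat.card G = Nat.card ↥Cfsg.Spor.M22)
    (hnse : {c : ℕ | 0 < c ∧ ∃ n : ℕ, c = Nat.card {g : G // orderOf g = n}} =
      {c : ℕ | 0 < c ∧ ∃ n : ℕ, c = Nat.card {g : ↥Cfsg.Spor.M22 // orderOf g = n}}) :
    Cfsg.IsM22 G := by
  have := fact_five
  have := fact_seven
  have := fact_eleven
  have hc : Nat.card G = 443520 := hcard.trans S5005.card_G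
  have h5 := fun P => normalizer_data (p := 5) (Or.inl rfl) hcard hnse P
  have h7 := fun P => normalizer_data (p := 7) (Or.inr (Or.inl rfl)) hcard hnse P
  have h11 := fun P => normalizer_data (p := 11) (Or.inr (Or.inr rfl)) hcard hnse P
  have : Nontrivial G := Finite.one_lt_card_iff_nontrivial.1 (by omega)
  refine ⟨⟨fun N hN => ?_⟩, hc⟩
  by_cases hbot : N = ⊥
  · exact Or.inl hbot
  refine Or.inr ?_
  have hN1 : 1 < Nat.card N := Subgroup.one_lt_card_iff_ne_bot N |>.2 hbot
  have hmul := Subgroup.card_mul_index N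
  rw [hc] at hmul
  have i5 : 5 ∣ Nat.card N → N.index ∣ 20 := fun h => by
    obtain ⟨P, hP⟩ := index_dvd (fun P => (h5 P).1) h
    rwa [(h5 P).2, if_pos rfl] at hP
  have i7 : 7 ∣ Nat.card N → N.index ∣ 21 := fun h => by
    obtain ⟨P, hP⟩ := index_dvd (fun P => (h7 P).1) h
    rw [(h7 P).2] at hP
    simpa using hP
  have i11 : 11 ∣ Nat.card N → N.index ∣ 55 := fun h => by
    obtain ⟨P, hP⟩ := index_dvd (fun P => (h11 P).1) h
    rw [(h11 P).2] at hP
    simpa using hP
  have hor : ∀ q : ℕ, q.Prime → q ∣ 443520 → q ∣ Nat.card N ∨ q ∣ N.index := fun q hq h =>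
    hq.dvd_mul.1 (hmul ▸ h)
  by_cases hA : 5 ∣ Nat.card N ∨ 7 ∣ Nat.card N ∨ 11 ∣ Nat.card N
  · rw [← Subgroup.index_eq_one]
    have h11' : 11 ∣ Nat.card N := by
      refine (hor 11 (by norm_num) (by norm_num)).resolve_right fun h => ?_
      rcases hA with h' | h' | h'
      · exact absurd (h.trans (i5 h')) (by norm_num)
      · exact absurd (h.trans (i7 h')) (by norm_num)
      · have hdd : 11 * 11 ∣ 443520 := hmul ▸ mul_dvd_mul h' h
        exact absurd hdd (by norm_num)
    have h7' : 7 ∣ Nat.card N :=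
      (hor 7 (by norm_num) (by norm_num)).resolve_right fun h =>
        absurd (h.trans (i11 h11')) (by norm_num)
    have := Nat.dvd_gcd (i11 h11') (i7 h7')
    simpa using this
  · exfalso
    push Not at hA
    have hd : Nat.card N ∣ 2 ^ 7 * 3 ^ 2 := by
      have h0 : Nat.card N ∣ 2 ^ 7 * 3 ^ 2 * (5 * (7 * 11)) := by
        norm_num
        exact Dvd.intro _ hmul
      refine Nat.Coprime.dvd_of_dvd_mul_right ?_ h0
      exact ((Nat.Prime.coprime_iff_not_dvd (by norm_num)).2 hA.1).symm.mul_right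
        (((Nat.Prime.coprime_iff_not_dvd (by norm_num)).2 hA.2.1).symm.mul_right
          ((Nat.Prime.coprime_iff_not_dvd (by norm_num)).2 hA.2.2).symm)
    obtain ⟨P11⟩ : Nonempty (Sylow 11 G) := inferInstance
    obtain ⟨P7⟩ : Nonempty (Sylow 7 G) := inferInstance
    obtain ⟨f, hf1, hf2, hf3⟩ := fixed_mod (N := N) P11
    obtain ⟨f', hf1', hf2', hf3'⟩ := fixed_mod (N := N) P7
    rw [(h11 P11).2] at hf2
    rw [(h7 P7).2] at hf2'
    simp only [Nat.reduceEqDiff, if_false, if_true] at hf2 hf2'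
    obtain ⟨d1, d2, hd1, hd2, hab⟩ := exists_dvd_and_dvd_of_dvd_mul hd
    obtain ⟨a, ha, rfl⟩ := (Nat.dvd_prime_pow Nat.prime_two).1 hd1
    obtain ⟨b, hb, rfl⟩ := (Nat.dvd_prime_pow Nat.prime_three).1 hd2
    have hf : f ∣ 1 := by
      have h := Nat.dvd_gcd hf2 (hf1.trans hd)
      exact h.trans (by norm_num)
    have hf' : f' ∣ 3 := by
      have h := Nat.dvd_gcd hf2' (hf1'.trans hd)
      exact h.trans (by norm_num)
    rw [Nat.dvd_one] at hf
    refine table a (List.mem_range.2 (by omega)) b (List.mem_range.2 (by omega)) (hab ▸ hN1)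
      ⟨?_, ?_⟩
    · rw [← hab, hf3, hf]
    · rw [← hab, hf3']
      rcases (Nat.dvd_prime Nat.prime_three).1 hf' with h | h <;> simp [h]

end

end Cfsg.Agent.NSEM22
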